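import Mathlib
import Groth.Agent.RatMapExt.Sections

/-!
# Extending morphisms over points whose local rings are valuation rings
-/

set_option autoImplicit false
set_option linter.style.haveILetI false
universe u

open CategoryTheory CategoryTheory.Limits AlgebraicGeometry TopologicalSpace IsLocalRing

namespace Groth.Agent.CurveExt

variable {X Y S : Scheme.{u}}

/-- A closed map has the lifting property for local rings of the base which are valuation rings. -/
lemma exists_lift_of_isClosedMap (f : X ⟶ Y) (hf : IsClosedMap f.base) (y : Y)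
    [IsDomain (Y.presheaf.stalk y)] [ValuationRing (Y.presheaf.stalk y)]
    {K : Type u} [Field K] [Algebra (Y.presheaf.stalk y) K] [IsFractionRing (Y.presheaf.stalk y) K]
    (i : Spec (CommRingCat.of K) ⟶ X)
    (hi : i ≫ f = Spec.map (CommRingCat.ofHom (algebraMap (Y.presheaf.stalk y) K)) ≫ Y.fromSpecStalk y) :
    ∃ l : Spec (Y.presheaf.stalk y) ⟶ X, l ≫ f = Y.fromSpecStalk y ∧
      Spec.map (CommRingCat.ofHom (algebraMap (Y.presheaf.stalk y) K)) ≫ l = i := by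
  let c : Spec (CommRingCat.of K) := closedPoint K
  have hzy : f (i c) ⤳ y := by
    rw [← Scheme.Hom.comp_apply, hi, Scheme.Hom.comp_apply]
    exact Y.range_fromSpecStalk.le ⟨_, rfl⟩
  obtain ⟨x', hx', rfl⟩ : y ∈ f.base '' closure {i c} :=
    hzy.mem_closed (hf _ isClosed_closure) ⟨i c, subset_closure rfl, rfl⟩
  have hsp : i c ⤳ x' := specializes_iff_mem_closure.mpr hx'
  let β : X.presheaf.stalk x' ⟶ CommRingCat.of K :=
    X.presheaf.stalkSpecializes hsp ≫ Scheme.stalkClosedPointTo i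
  have hβ : Spec.map β ≫ X.fromSpecStalk x' = i := by
    rw [Spec.map_comp, Category.assoc, Scheme.SpecMap_stalkSpecializes_fromSpecStalk]
    exact Scheme.Spec_stalkClosedPointTo_fromSpecStalk i
  have hαβ : f.stalkMap x' ≫ β = CommRingCat.ofHom (algebraMap (Y.presheaf.stalk (f x')) K) := by
    apply Spec.map_injective
    rw [← cancel_mono (Y.fromSpecStalk (f x')), Spec.map_comp, Category.assoc,
      Scheme.SpecMap_stalkMap_fromSpecStalk, reassoc_of% hβ, hi]
  have hb := bijective_rangeRestrict_comp_of_valuationRing (R := Y.presheaf.stalk (f x')) (K := K)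
    (f.stalkMap x').hom β.hom (CommRingCat.hom_ext_iff.mp hαβ)
  let φ : X.presheaf.stalk x' ⟶ Y.presheaf.stalk (f x') := CommRingCat.ofHom <|
    (RingEquiv.ofBijective _ hb).symm.toRingHom.comp β.hom.rangeRestrict
  have hαφ : f.stalkMap x' ≫ φ = 𝟙 _ := by
    ext a; exact (RingEquiv.ofBijective _ hb).symm_apply_apply a
  have hφβ : φ ≫ CommRingCat.ofHom (algebraMap (Y.presheaf.stalk (f x')) K) = β :=
    hαβ ▸ CommRingCat.hom_ext (RingHom.ext fun a ↦ congr_arg Subtype.val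
      ((RingEquiv.ofBijective _ hb).apply_symm_apply (β.hom.rangeRestrict a)))
  refine ⟨Spec.map φ ≫ X.fromSpecStalk x', ?_, ?_⟩
  · rw [Category.assoc, ← Scheme.SpecMap_stalkMap_fromSpecStalk, ← Spec.map_comp_assoc, hαφ,
      Spec.map_id, Category.id_comp]
  · rw [← Spec.map_comp_assoc]
    exact (congrArg (fun a ↦ Spec.map a ≫ X.fromSpecStalk x') hφβ).trans hβ

/-- Two morphisms to a separated scheme agreeing on a dense open of a reduced scheme agree. -/
lemma ext_of_dense [IsReduced X] (pY : Y ⟶ S) [IsSeparated pY] {U W : X.Opens} (hU : Dense (U : Set X))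
    {a b : (W : Scheme.{u}) ⟶ Y} (h : a ≫ pY = b ≫ pY)
    (heq : X.homOfLE (inf_le_right : U ⊓ W ≤ W) ≫ a = X.homOfLE (inf_le_right : U ⊓ W ≤ W) ≫ b) :
    a = b := by
  haveI : IsDominant (X.homOfLE (inf_le_right : U ⊓ W ≤ W)) := by
    refine ⟨fun q ↦ ?_⟩
    rw [mem_closure_iff]
    intro o ho hq
    obtain ⟨x, hxo, hxU⟩ := hU.inter_open_nonempty (W.ι '' o) (W.ι.isOpenEmbedding.isOpenMap o ho)
      ⟨_, q, hq, rfl⟩
    obtain ⟨w, hw, rfl⟩ := hxo
    refine ⟨w, hw, ⟨W.ι w, hxU, w.2⟩, W.ι.isOpenEmbedding.injective ?_⟩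
    exact congr($(X.homOfLE_ι (inf_le_right : U ⊓ W ≤ W)) ⟨W.ι w, hxU, w.2⟩)
  exact ext_of_isDominant_of_isSeparated pY h _ heq

/-- Extension at one point. -/
theorem exists_extend_at [IsLocallyNoetherian X] (pX : X ⟶ S) (pY : Y ⟶ S) [IsSeparated pY]
    [LocallyOfFiniteType pY] {U : X.Opens} (hU : Dense (U : Set X)) (h : (U : Scheme.{u}) ⟶ Y)
    (hh : h ≫ pY = U.ι ≫ pX) (x : X) [IsDomain (X.presheaf.stalk x)]
    (H : ∀ i : Spec (CommRingCat.of (FractionRing (X.presheaf.stalk x))) ⟶ Y,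
      i ≫ pY = Spec.map (CommRingCat.ofHom (algebraMap (X.presheaf.stalk x)
          (FractionRing (X.presheaf.stalk x)))) ≫ X.fromSpecStalk x ≫ pX →
      (∀ p, ∃ u : U, U.ι u = (Spec.map (CommRingCat.ofHom (algebraMap (X.presheaf.stalk x)
          (FractionRing (X.presheaf.stalk x)))) ≫ X.fromSpecStalk x) p ∧ h u = i p) →
      ∃ l : Spec (X.presheaf.stalk x) ⟶ Y, l ≫ pY = X.fromSpecStalk x ≫ pX ∧
        Spec.map (CommRingCat.ofHom (algebraMap (X.presheaf.stalk x)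
          (FractionRing (X.presheaf.stalk x)))) ≫ l = i) :
    ∃ (V : X.Opens) (v : (V : Scheme.{u}) ⟶ Y), x ∈ V ∧ v ≫ pY = V.ι ≫ pX ∧
      X.homOfLE (inf_le_right : U ⊓ V ≤ V) ≫ v = X.homOfLE (inf_le_left : U ⊓ V ≤ U) ≫ h := by
  set K := FractionRing (X.presheaf.stalk x)
  let gen : Spec (CommRingCat.of K) ⟶ Spec (X.presheaf.stalk x) :=
    Spec.map (CommRingCat.ofHom (algebraMap (X.presheaf.stalk x) K))
  let ψ := gen ≫ X.fromSpecStalk x
  obtain ⟨W, hW, hWd, hxW, -⟩ := RatMapExt.exists_affine_domain_nhd x ⊤ trivial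
  haveI : IsAffine (W : Scheme.{u}) := hW
  haveI : Nonempty W := ⟨⟨x, hxW⟩⟩
  haveI : IsIntegral (W : Scheme.{u}) := by
    haveI : IsDomain Γ((W : Scheme.{u}), ⊤) :=
      W.topIso.commRingCatIsoToRingEquiv.toMulEquiv.isDomain Γ(X, W)
    exact IsIntegral.of_isIso (W : Scheme.{u}).isoSpec.inv
  have hψW : ∀ p, ψ p ∈ W := fun p ↦ (X.range_fromSpecStalk.le ⟨_, rfl⟩ : ψ p ⤳ x).mem_open W.2 hxW
  -- `ψ` hits the generic point of `W`
  let w₀ : (W : Scheme.{u}) := ⟨ψ default, hψW default⟩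
  have hgen : ∀ w : (W : Scheme.{u}), w₀ ⤳ w := by
    intro w
    suffices h1 : genericPoint (W : Scheme.{u}) = w₀ from h1 ▸ genericPoint_specializes w
    letI := X.presheaf.algebra_section_stalk (U := W) ⟨x, hxW⟩
    haveI := hW.isLocalization_stalk ⟨x, hxW⟩
    let bot : Spec Γ(X, W) := (⟨⊥, Ideal.isPrime_bot⟩ : PrimeSpectrum Γ(X, W))
    have hbot : hW.fromSpec bot = ψ default := by
      have e : ψ = Spec.map (X.presheaf.germ W x hxW ≫
          CommRingCat.ofHom (algebraMap (X.presheaf.stalk x) K)) ≫ hW.fromSpec := by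
        show gen ≫ X.fromSpecStalk x = _
        rw [← hW.fromSpecStalk_eq_fromSpecStalk hxW]
        exact ((congrArg (· ≫ hW.fromSpec) (Spec.map_comp _ _)).trans (Category.assoc _ _ _)).symm
      rw [e, Scheme.Hom.comp_apply]
      congr 1
      refine PrimeSpectrum.ext (eq_bot_iff.mp ?_ |> fun h ↦ le_antisymm bot_le h)
      refine eq_bot_iff.mpr fun a ha ↦ ?_
      have ha' : algebraMap (X.presheaf.stalk x) K (algebraMap Γ(X, W) (X.presheaf.stalk x) a) ∈
          (default : Spec (CommRingCat.of K)).asIdeal := ha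
      rw [(Ideal.eq_bot_or_top (default : Spec (CommRingCat.of K)).asIdeal).resolve_right
        (default : Spec (CommRingCat.of K)).2.ne_top, Ideal.mem_bot] at ha'
      have h3 := IsFractionRing.injective (X.presheaf.stalk x) K (ha'.trans (map_zero _).symm)
      exact IsLocalization.injective (X.presheaf.stalk x)
        (hW.primeIdealOf ⟨x, hxW⟩).asIdeal.primeCompl_le_nonZeroDivisors
        (h3.trans (map_zero _).symm)
    apply W.ι.isOpenEmbedding.injective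
    show _ = ψ default
    rw [← hbot]
    refine ((Specializes.antisymm ?_ ?_).eq)
    · obtain ⟨w', hw'⟩ : hW.fromSpec bot ∈ Set.range W.ι := by
        rw [Scheme.Opens.range_ι, ← hW.range_fromSpec]; exact ⟨bot, rfl⟩
      rw [← hw']
      exact (genericPoint_specializes w').map W.ι.continuous
    · obtain ⟨q, hq⟩ : W.ι (genericPoint (W : Scheme.{u})) ∈ Set.range hW.fromSpec :=
        hW.range_fromSpec.ge (genericPoint (W : Scheme.{u})).2
      rw [← hq]
      exact ((PrimeSpectrum.le_iff_specializes bot q).mp bot_le).map hW.fromSpec.continuous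
  have hψU : ∀ p, ψ p ∈ U := fun p ↦ by
    obtain ⟨z, hzW, hzU⟩ := hU.inter_open_nonempty W W.2 ⟨x, hxW⟩
    rw [Subsingleton.elim p default]
    exact ((hgen ⟨z, hzW⟩).map W.ι.continuous).mem_open U.2 hzU
  let ψU := IsOpenImmersion.lift U.ι ψ (by rintro _ ⟨p, rfl⟩; rw [Scheme.Opens.range_ι]; exact hψU p)
  have hψUι : ψU ≫ U.ι = ψ := IsOpenImmersion.lift_fac _ _ _
  have hi : (ψU ≫ h) ≫ pY = gen ≫ X.fromSpecStalk x ≫ pX := by
    rw [Category.assoc, hh, reassoc_of% hψUι]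
    exact Category.assoc _ _ _
  obtain ⟨l, hl, hl'⟩ := H (ψU ≫ h) hi
    (fun p ↦ ⟨ψU p, by rw [← Scheme.Hom.comp_apply, hψUι]; rfl, (Scheme.Hom.comp_apply ψU h p).symm⟩)
  obtain ⟨V, hxV, v, hv, hv'⟩ := spread_out_of_isGermInjective' pX pY (x := x) l hl
  refine ⟨V ⊓ W, X.homOfLE inf_le_left ≫ v, ⟨hxV, hxW⟩,
    by rw [Category.assoc, hv', Scheme.homOfLE_ι_assoc], ?_⟩
  have hin : ∀ p, ψ p ∈ U ⊓ (V ⊓ W) := fun p ↦
    ⟨hψU p, (X.range_fromSpecStalk.le ⟨_, rfl⟩ : ψ p ⤳ x).mem_open V.2 hxV, hψW p⟩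
  let ψ' := IsOpenImmersion.lift (U ⊓ (V ⊓ W)).ι ψ
    (by rintro _ ⟨p, rfl⟩; rw [Scheme.Opens.range_ι]; exact hin p)
  have hψ' : ψ' ≫ (U ⊓ (V ⊓ W)).ι = ψ := IsOpenImmersion.lift_fac _ _ _
  haveI : IsDominant ψ' := by
    refine ⟨fun q ↦ ?_⟩
    have hs : ψ' default ⤳ q := by
      rw [← (U ⊓ (V ⊓ W)).ι.isOpenEmbedding.isInducing.specializes_iff, ← Scheme.Hom.comp_apply, hψ']
      exact (hgen ⟨_, q.2.2.2⟩).map W.ι.continuous
    exact hs.mem_closed isClosed_closure (subset_closure ⟨default, rfl⟩)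
  haveI : IsReduced ((U ⊓ (V ⊓ W) : X.Opens) : Scheme.{u}) :=
    isReduced_of_isOpenImmersion (X.homOfLE (le_trans inf_le_right inf_le_right : U ⊓ (V ⊓ W) ≤ W))
  refine ext_of_isDominant_of_isSeparated pY ?_ ψ' ?_
  · rw [Category.assoc, Category.assoc, Category.assoc, hh, hv']
    simp only [Scheme.homOfLE_ι_assoc]
  · have hA : ψ' ≫ X.homOfLE (inf_le_right : U ⊓ (V ⊓ W) ≤ V ⊓ W) ≫ X.homOfLE inf_le_left =
        gen ≫ V.fromSpecStalkOfMem x hxV := by
      rw [← cancel_mono V.ι]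
      simp only [Category.assoc, Scheme.homOfLE_ι, Scheme.Opens.fromSpecStalkOfMem_ι]
      exact hψ'
    have hB : ψ' ≫ X.homOfLE (inf_le_left : U ⊓ (V ⊓ W) ≤ U) = ψU := by
      rw [← cancel_mono U.ι, Category.assoc, Scheme.homOfLE_ι, hψ', hψUι]
    rw [reassoc_of% hA, reassoc_of% hB, ← hv]
    exact hl'

/-- Gluing extensions of a morphism from a dense open. -/
theorem exists_glue_extensions [IsReduced X] (pX : X ⟶ S) (pY : Y ⟶ S) [IsSeparated pY]
    {U : X.Opens} (hU : Dense (U : Set X)) (h : (U : Scheme.{u}) ⟶ Y)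
    (hh : h ≫ pY = U.ι ≫ pX) (P : Set X)
    (H : ∀ x ∈ P, ∃ (V : X.Opens) (v : (V : Scheme.{u}) ⟶ Y), x ∈ V ∧ v ≫ pY = V.ι ≫ pX ∧
      X.homOfLE (inf_le_right : U ⊓ V ≤ V) ≫ v = X.homOfLE (inf_le_left : U ⊓ V ≤ U) ≫ h) :
    ∃ (W : X.Opens) (hUW : U ≤ W) (w : (W : Scheme.{u}) ⟶ Y),
      (∀ x ∈ P, x ∈ W) ∧ w ≫ pY = W.ι ≫ pX ∧ X.homOfLE hUW ≫ w = h := by
  choose V v hxV hv hres using H
  let T : Option P → X.Opens := fun t ↦ match t with | none => U | some x => V x.1 x.2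
  let f : ∀ t, (T t : Scheme.{u}) ⟶ Y := fun t ↦ match t with | none => h | some x => v x.1 x.2
  have hfp : ∀ t, f t ≫ pY = (T t).ι ≫ pX := fun t ↦ match t with
    | none => hh
    | some x => hv x.1 x.2
  have hfres : ∀ t, X.homOfLE (inf_le_right : U ⊓ T t ≤ T t) ≫ f t =
      X.homOfLE (inf_le_left : U ⊓ T t ≤ U) ≫ h := fun t ↦ match t with
    | none => rfl
    | some x => hres x.1 x.2
  have key : ∀ s t, X.homOfLE (inf_le_left : T s ⊓ T t ≤ T s) ≫ f s =
      X.homOfLE (inf_le_right : T s ⊓ T t ≤ T t) ≫ f t := by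
    intro s t
    refine ext_of_dense pY hU ?_ ?_
    · rw [Category.assoc, Category.assoc, hfp, hfp, Scheme.homOfLE_ι_assoc, Scheme.homOfLE_ι_assoc]
    · have hs : U ⊓ (T s ⊓ T t) ≤ U ⊓ T s := inf_le_inf_left _ inf_le_left
      have ht : U ⊓ (T s ⊓ T t) ≤ U ⊓ T t := inf_le_inf_left _ inf_le_right
      rw [Scheme.homOfLE_homOfLE_assoc, Scheme.homOfLE_homOfLE_assoc,
        ← X.homOfLE_homOfLE hs inf_le_right, ← X.homOfLE_homOfLE ht inf_le_right,
        Category.assoc, Category.assoc, hfres, hfres, Scheme.homOfLE_homOfLE_assoc,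
        Scheme.homOfLE_homOfLE_assoc]
  have hf : ∀ s t, pullback.fst ((Scheme.Opens.iSupOpenCover T).f s)
        ((Scheme.Opens.iSupOpenCover T).f t) ≫ f s = pullback.snd _ _ ≫ f t := by
    intro s t
    let p₁ := pullback.fst (X.homOfLE (le_iSup T s)) (X.homOfLE (le_iSup T t))
    let p₂ := pullback.snd (X.homOfLE (le_iSup T s)) (X.homOfLE (le_iSup T t))
    have hp : p₁ ≫ (T s).ι = p₂ ≫ (T t).ι := by
      rw [← X.homOfLE_ι (le_iSup T s), pullback.condition_assoc, X.homOfLE_ι]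
    let l : pullback (X.homOfLE (le_iSup T s)) (X.homOfLE (le_iSup T t)) ⟶ (T s ⊓ T t : X.Opens) :=
      IsOpenImmersion.lift (T s ⊓ T t).ι (p₁ ≫ (T s).ι) (by
        rintro _ ⟨w, rfl⟩
        rw [Scheme.Opens.range_ι]
        refine ⟨(p₁ w).2, ?_⟩
        rw [hp]
        exact (p₂ w).2)
    have hl : l ≫ (T s ⊓ T t).ι = p₁ ≫ (T s).ι := IsOpenImmersion.lift_fac _ _ _
    have h₁ : p₁ = l ≫ X.homOfLE inf_le_left := by
      rw [← cancel_mono (T s).ι, Category.assoc, X.homOfLE_ι, hl]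
    have h₂ : p₂ = l ≫ X.homOfLE inf_le_right := by
      rw [← cancel_mono (T t).ι, Category.assoc, X.homOfLE_ι, hl, hp]
    show p₁ ≫ f s = p₂ ≫ f t
    rw [h₁, h₂, Category.assoc, Category.assoc, key s t]
  let w := (Scheme.Opens.iSupOpenCover T).glueMorphisms f hf
  have hw : ∀ t, X.homOfLE (le_iSup T t) ≫ w = f t :=
    fun t ↦ (Scheme.Opens.iSupOpenCover T).ι_glueMorphisms f hf t
  refine ⟨iSup T, le_iSup T none, w, fun x hx ↦ Opens.mem_iSup.mpr ⟨some ⟨x, hx⟩, hxV x hx⟩, ?_, hw none⟩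
  refine (Scheme.Opens.iSupOpenCover T).hom_ext _ _ fun t ↦ ?_
  show X.homOfLE (le_iSup T t) ≫ w ≫ pY = X.homOfLE (le_iSup T t) ≫ (iSup T).ι ≫ pX
  exact (Category.assoc _ _ _).symm.trans ((congrArg (· ≫ pY) (hw t)).trans ((hfp t).trans
    (Scheme.homOfLE_ι_assoc ..).symm))

end Groth.Agent.CurveExt
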